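import Groth.Agent.TransLib.Universal
import Groth.Agent.GrpSchLib.MonoSubgroup
import Groth.Agent.S0351
import Groth.Prelude.Def_Red

/-!
# The generated subgroup stays minimal after base change
-/

universe u

open CategoryTheory CategoryTheory.Limits MonoidalCategory CartesianMonoidalCategory MonObj AlgebraicGeometry

set_option backward.isDefEq.respectTransparency false
set_option backward.isDefEq.respectTransparency.types false
set_option synthInstance.maxHeartbeats 80000

noncomputable section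

namespace Groth.Agent.GenSubBC

section Fac

variable {B S : Scheme.{u}} (σ : S ⟶ B) {G : Over B} [GrpObj G] {Γ' W' : Over S} [GrpObj Γ'] (i' : Γ' ⟶ Red.bc σ G)
  [IsMonHom i']

/-- A point which lands in the subgroup after base change. -/
def Fac (W' : Over S) {T : Over B} (g : T ⟶ G) : Prop :=
  ∃ l : W' ⊗ Red.bc σ T ⟶ Γ', l ≫ i' = snd W' (Red.bc σ T) ≫ (Over.pullback σ).map g

theorem fac_one {T : Over B} : Fac σ i' W' (1 : T ⟶ G) :=
  ⟨1, by rw [MonObj.one_comp, Functor.map_one, MonObj.comp_one]⟩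

theorem fac_mul {T : Over B} {g h : T ⟶ G} (hg : Fac σ i' W' g) (hh : Fac σ i' W' h) : Fac σ i' W' (g * h) := by
  obtain ⟨a, ha⟩ := hg
  obtain ⟨b, hb⟩ := hh
  exact ⟨a * b, by rw [MonObj.mul_comp, ha, hb, Functor.map_mul, MonObj.comp_mul]⟩

theorem fac_inv {T : Over B} {g : T ⟶ G} (hg : Fac σ i' W' g) : Fac σ i' W' g⁻¹ := by
  obtain ⟨a, ha⟩ := hg
  refine ⟨a⁻¹, ?_⟩
  rw [GrpObj.inv_comp, ha, Functor.map_inv', GrpObj.comp_inv]

end Fac

/-- The base change of a morphism is a base change of the morphism. -/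
theorem isPullback_map_left {S T : Scheme.{u}} {H G : Over S} (i : H ⟶ G) (ρ : T ⟶ S) :
    IsPullback (pullback.fst H.hom ρ) ((Over.pullback ρ).map i).left i.left (pullback.fst G.hom ρ) := by
  have h1 : ((Over.pullback ρ).map i).left ≫ pullback.snd G.hom ρ = pullback.snd H.hom ρ :=
    Over.w ((Over.pullback ρ).map i)
  refine IsPullback.of_bot ?_ ?_ (IsPullback.of_hasPullback G.hom ρ)
  · rw [h1, Over.w i]
    exact IsPullback.of_hasPullback H.hom ρ
  · exact (pullback.lift_fst _ _ _).symm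

variable {k : Type u} [Field k] {G X Γ : Over (Spec (CommRingCat.of k))} [GrpObj G] [GrpObj Γ] {f : X ⟶ G}
  (i : Γ ⟶ G) [IsMonHom i] [IsClosedImmersion i.left]
  {S : Scheme.{u}} (σ : S ⟶ Spec (CommRingCat.of k)) {Γ' : Over S} [GrpObj Γ'] (i' : Γ' ⟶ Red.bc σ G) [IsMonHom i']

variable (W' : Over S) in
/-- The product over the base, computed over the field. -/
def prodIso (T : Over (Spec (CommRingCat.of k))) :
    (Over.mk (W'.hom ≫ σ) ⊗ T).left ≅ (W' ⊗ Red.bc σ T).left where
  hom := pullback.lift (pullback.fst _ _)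
    (pullback.lift (pullback.snd _ _) (pullback.fst _ _ ≫ W'.hom) (by
      rw [Category.assoc]; exact pullback.condition.symm)) (pullback.lift_snd _ _ _).symm
  inv := pullback.lift (pullback.fst _ _) (pullback.snd _ _ ≫ pullback.fst _ _) (by
    show pullback.fst _ _ ≫ W'.hom ≫ σ = _
    rw [Category.assoc, pullback.condition (f := T.hom), ← Category.assoc, ← Category.assoc]
    exact congrArg (· ≫ σ) pullback.condition)
  hom_inv_id := by
    apply pullback.hom_ext <;> simp
  inv_hom_id := by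
    apply pullback.hom_ext
    · simp
    · rw [Category.assoc, pullback.lift_snd, Category.id_comp]
      apply pullback.hom_ext
      · simp
      · rw [Category.assoc, pullback.lift_snd, pullback.lift_fst_assoc]
        exact pullback.condition

theorem prodIso_natural (W' : Over S) {P T : Over (Spec (CommRingCat.of k))} (x : P ⟶ T) :
    (Over.mk (W'.hom ≫ σ) ◁ x).left ≫ (prodIso σ W' T).hom =
      (prodIso σ W' P).hom ≫ (W' ◁ (Over.pullback σ).map x).left := by
  apply pullback.hom_ext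
  · simp [prodIso, Over.whiskerLeft_left]
  · apply pullback.hom_ext <;> simp [prodIso, Over.whiskerLeft_left]

/-- The smallest closed subgroup through which a morphism factors is in any subgroup through which it factors after
base change, if that subgroup cuts a closed subscheme on it. -/
theorem fac_of_minimal (hf : ∃ f' : X ⟶ Γ, f' ≫ i = f)
    (hmin : ∀ (Γ₁ : Over (Spec (CommRingCat.of k))) (_ : GrpObj Γ₁) (i₁ : Γ₁ ⟶ G), IsMonHom i₁ → IsClosedImmersion i₁.left →
        (∃ f'' : X ⟶ Γ₁, f'' ≫ i₁ = f) → ∃ j : Γ ⟶ Γ₁, j ≫ i₁ = i)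
    (hfac : ∃ l : Red.bc σ X ⟶ Γ', l ≫ i' = (Over.pullback σ).map f) (W' : Over S)
    (hcl : IsClosedImmersion (pullback.snd i'.left (snd W' (Red.bc σ Γ) ≫ (Over.pullback σ).map i).left)) :
    ∃ l : W' ⊗ Red.bc σ Γ ⟶ Γ', l ≫ i' = snd W' (Red.bc σ Γ) ≫ (Over.pullback σ).map i := by
  let W : Over (Spec (CommRingCat.of k)) := Over.mk (W'.hom ≫ σ)
  let φ := (snd W' (Red.bc σ Γ) ≫ (Over.pullback σ).map i).left
  let E : Over (Spec (CommRingCat.of k)) :=
    Over.mk ((pullback.snd i'.left φ ≫ (prodIso σ W' Γ).inv) ≫ (W ⊗ Γ).hom)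
  let e : E ⟶ W ⊗ Γ := Over.homMk (pullback.snd i'.left φ ≫ (prodIso σ W' Γ).inv) rfl
  haveI := hcl
  haveI : IsClosedImmersion e.left := inferInstanceAs (IsClosedImmersion (pullback.snd i'.left φ ≫ (prodIso σ W' Γ).inv))
  obtain ⟨Z, c, hc, -, huniv⟩ := TransLib.exists_closed_universal_essFree (W := W) (X := Γ)
    (Groth.Agent.S5356.result.2.2.1 k _ W.hom) (𝟙 (W ⊗ Γ)) e
  have key : ∀ {P : Over (Spec (CommRingCat.of k))} (x : P ⟶ Γ),
      (∃ z : P ⟶ Z, z ≫ c = x) ↔ Fac σ i' W' (x ≫ i) := fun {P} x => by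
    rw [huniv, Category.comp_id]
    have hnat : (W ◁ x).left ≫ (prodIso σ W' Γ).hom = (prodIso σ W' P).hom ≫ (W' ◁ (Over.pullback σ).map x).left :=
      prodIso_natural σ W' x
    have hφ : (W' ◁ (Over.pullback σ).map x).left ≫ φ = (snd W' (Red.bc σ P) ≫ (Over.pullback σ).map (x ≫ i)).left := by
      rw [← Over.comp_left, whiskerLeft_snd_assoc, ← Functor.map_comp]
    constructor
    · rintro ⟨l, hl⟩
      have hl' : l.left ≫ pullback.snd i'.left φ ≫ (prodIso σ W' Γ).inv = (W ◁ x).left := congrArg CommaMorphism.left hl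
      refine ⟨Over.homMk ((prodIso σ W' P).inv ≫ l.left ≫ pullback.fst i'.left φ) ?_, Over.OverMorphism.ext ?_⟩
      · rw [← Over.w i', ← Over.w (snd W' (Red.bc σ P) ≫ (Over.pullback σ).map (x ≫ i)), ← hφ]
        simp only [Category.assoc]
        rw [pullback.condition_assoc, ← Iso.inv_hom_id_assoc (prodIso σ W' P) ((W' ◁ (Over.pullback σ).map x).left ≫ _),
          ← reassoc_of% hnat, ← hl']
        simp
      · show ((prodIso σ W' P).inv ≫ l.left ≫ pullback.fst i'.left φ) ≫ i'.left = _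
        rw [← hφ]
        simp only [Category.assoc]
        rw [pullback.condition, ← Iso.inv_hom_id_assoc (prodIso σ W' P) ((W' ◁ (Over.pullback σ).map x).left ≫ φ),
          ← reassoc_of% hnat, ← hl']
        simp
    · rintro ⟨l, hl⟩
      have hl' : l.left ≫ i'.left = (W' ◁ (Over.pullback σ).map x).left ≫ φ := by
        rw [hφ]; exact congrArg CommaMorphism.left hl
      let m : (W ⊗ P).left ⟶ pullback i'.left φ := pullback.lift ((prodIso σ W' P).hom ≫ l.left)
        ((prodIso σ W' P).hom ≫ (W' ◁ (Over.pullback σ).map x).left) (by rw [Category.assoc, hl', Category.assoc])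
      have hm : m ≫ pullback.snd i'.left φ ≫ (prodIso σ W' Γ).inv = (W ◁ x).left := by
        rw [pullback.lift_snd_assoc, ← hnat, Category.assoc, Iso.hom_inv_id, Category.comp_id]
      exact ⟨Over.homMk m (by
        show m ≫ (pullback.snd i'.left φ ≫ (prodIso σ W' Γ).inv) ≫ (W ⊗ Γ).hom = _
        rw [Category.assoc, ← Category.assoc m, ← Category.assoc (m ≫ _), Category.assoc m, hm]
        exact Over.w (W ◁ x)), Over.OverMorphism.ext hm⟩
  haveI := hc
  haveI : Mono i := Over.mono_of_mono_left _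
  haveI : Mono c := Over.mono_of_mono_left _
  haveI : IsClosedImmersion (c ≫ i).left := inferInstanceAs (IsClosedImmersion (c.left ≫ i.left))
  obtain ⟨η', hη'⟩ := (key (1 : 𝟙_ (Over (Spec (CommRingCat.of k))) ⟶ Γ)).mpr (by rw [MonObj.one_comp]; exact fac_one σ i')
  have hfc : Fac σ i' W' (c ≫ i) := (key c).mp ⟨𝟙 Z, Category.id_comp c⟩
  have hfp : ∀ {T : Over (Spec (CommRingCat.of k))} (a : T ⟶ Z), Fac σ i' W' (a ≫ c ≫ i) := fun {T} a => by
    rw [← Category.assoc]; exact (key _).mp ⟨a, rfl⟩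
  obtain ⟨μ', hμ'⟩ := (key (lift (fst Z Z ≫ c) (snd Z Z ≫ c) ≫ μ[Γ])).mpr (by
    rw [← Hom.mul_def, MonObj.mul_comp, Category.assoc, Category.assoc]
    exact fac_mul σ i' (hfp _) (hfp _))
  obtain ⟨ι', hι'⟩ := (key c⁻¹).mpr (by rw [GrpObj.inv_comp]; exact fac_inv σ i' hfc)
  obtain ⟨str, hstr⟩ := GrpSchLib.exists_grpObj_of_mono (c ≫ i) η'
    (by rw [reassoc_of% hη', MonObj.one_comp, Hom.one_def]; simp) μ'
    (by rw [← Category.assoc μ' c i, hμ', ← Hom.mul_def, MonObj.mul_comp, Category.assoc, Category.assoc]) ι'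
    (by rw [reassoc_of% hι', GrpObj.inv_comp])
  obtain ⟨f', rfl⟩ := hf
  obtain ⟨j, hj⟩ := hmin Z str (c ≫ i) hstr inferInstance (by
    obtain ⟨z, hz⟩ := (key f').mpr (by
      obtain ⟨l, hl⟩ := hfac
      exact ⟨snd W' _ ≫ l, by rw [Category.assoc, hl]⟩)
    exact ⟨z, by rw [reassoc_of% hz]⟩)
  rw [← hj]
  exact hfp j

include i in
/-- The generated subgroup stays minimal after base change. -/
theorem main (hf : ∃ f' : X ⟶ Γ, f' ≫ i = f)
    (hmin : ∀ (Γ₁ : Over (Spec (CommRingCat.of k))) (_ : GrpObj Γ₁) (i₁ : Γ₁ ⟶ G), IsMonHom i₁ → IsClosedImmersion i₁.left →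
        (∃ f'' : X ⟶ Γ₁, f'' ≫ i₁ = f) → ∃ j : Γ ⟶ Γ₁, j ≫ i₁ = i)
    [IsImmersion i'.left] (hfac : ∃ l : Red.bc σ X ⟶ Γ', l ≫ i' = (Over.pullback σ).map f) :
    ∃ j : Red.bc σ Γ ⟶ Γ', j ≫ i' = (Over.pullback σ).map i := by
  let iS : Red.bc σ Γ ⟶ Red.bc σ G := (Over.pullback σ).map i
  -- on the fibres the subgroup is closed
  have hrange : Set.range iS.left ⊆ Set.range i'.left := by
    rintro _ ⟨y, rfl⟩
    let s : S := (Red.bc σ Γ).hom y
    let κ := S.fromSpecResidueField s
    let iK := (Over.pullback κ).map i'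
    haveI : IsImmersion iK.left :=
      MorphismProperty.of_isPullback (isPullback_map_left i' κ) ‹IsImmersion i'.left›
    haveI : IsMonHom iK := inferInstance
    haveI : IsClosedImmersion iK.left := Groth.Agent.S0351.result (S.residueField s) _ _ iK
    let W' : Over S := Over.mk κ
    have hcl : IsClosedImmersion (pullback.snd i'.left (snd W' (Red.bc σ Γ) ≫ iS).left) := by
      let a : (W' ⊗ Red.bc σ Γ).left ⟶ (Red.bc κ (Red.bc σ G)).left :=
        pullback.lift ((snd W' (Red.bc σ Γ) ≫ iS).left) (pullback.fst κ (Red.bc σ Γ).hom)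
          (Over.w (snd W' (Red.bc σ Γ) ≫ iS) |>.trans rfl)
      have ha : a ≫ pullback.fst (Red.bc σ G).hom κ = (snd W' (Red.bc σ Γ) ≫ iS).left := pullback.lift_fst _ _ _
      have hpb : IsClosedImmersion (pullback.snd iK.left a) := inferInstance
      rw [← ha]
      have sq := isPullback_map_left i' κ
      exact (MorphismProperty.arrow_mk_iso_iff @IsClosedImmersion
        (Arrow.isoMk (((IsPullback.of_hasPullback iK.left a).paste_horiz sq).isoPullback) (Iso.refl _)
          (by simp))).mp hpb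
    obtain ⟨l, hl⟩ := fac_of_minimal i σ i' hf hmin hfac W' hcl
    have hy : y ∈ Set.range (snd W' (Red.bc σ Γ)).left := by
      show y ∈ Set.range (pullback.snd κ (Red.bc σ Γ).hom)
      rw [Scheme.Pullback.range_snd]
      exact ⟨IsLocalRing.closedPoint _, Scheme.fromSpecResidueField_apply s _⟩
    obtain ⟨z, hz⟩ := hy
    exact ⟨l.left z, (congrArg (fun m : W' ⊗ Red.bc σ Γ ⟶ Red.bc σ G => m.left z) hl).trans (congrArg iS.left hz)⟩
  have hcl : IsClosedImmersion (pullback.snd i'.left (snd (𝟙_ (Over S)) (Red.bc σ Γ) ≫ iS).left) := by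
    refine IsClosedImmersion.of_isPreimmersion _ ?_
    rw [Scheme.Pullback.range_snd]
    convert isClosed_univ
    exact Set.eq_univ_of_forall fun z => hrange ⟨(snd (𝟙_ (Over S)) (Red.bc σ Γ)).left z, rfl⟩
  obtain ⟨l, hl⟩ := fac_of_minimal i σ i' hf hmin hfac (𝟙_ (Over S)) hcl
  exact ⟨lift (toUnit _) (𝟙 _) ≫ l, by rw [Category.assoc, hl, lift_snd_assoc, Category.id_comp]⟩

end Groth.Agent.GenSubBC
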